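import Mathlib

/-!
# Cubic forms of bidegree (3,3) on the quadric through the doubled points of the diagonal
-/

set_option autoImplicit false

universe u

open MvPolynomial

namespace Groth.Agent.BiTritan

variable {k : Type u} [Field k]

/-- The exponent of `x0^(3-i) x1^i y0^(3-j) y1^j`. -/
noncomputable def E (p : Fin 4 × Fin 4) : Fin 4 →₀ ℕ :=
  Finsupp.equivFunOnFinite.symm ![3 - p.1.1, p.1.1, 3 - p.2.1, p.2.1]

theorem E_inj : Function.Injective E := fun p q h => by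
  have h1 := DFunLike.congr_fun h 1
  have h3 := DFunLike.congr_fun h 3
  simp [E] at h1 h3
  exact Prod.ext (Fin.ext h1) (Fin.ext h3)

/-- The form with given coefficients. -/
noncomputable def Φ (a : Fin 4 → Fin 4 → k) : MvPolynomial (Fin 4) k :=
  ∑ p : Fin 4 × Fin 4, C (a p.1 p.2) * (X 0 ^ (3 - p.1.1) * X 1 ^ p.1.1 * X 2 ^ (3 - p.2.1) * X 3 ^ p.2.1)

theorem monomial_E (p : Fin 4 × Fin 4) (r : k) :
    monomial (E p) r = C r * (X 0 ^ (3 - p.1.1) * X 1 ^ p.1.1 * X 2 ^ (3 - p.2.1) * X 3 ^ p.2.1) := by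
  rw [monomial_eq, Finsupp.prod_fintype _ _ (fun i => pow_zero _), Fin.prod_univ_four]
  simp [E]

theorem Φ_eq (a : Fin 4 → Fin 4 → k) : Φ a = ∑ p : Fin 4 × Fin 4, monomial (E p) (a p.1 p.2) := by
  simp only [Φ, monomial_E]

theorem coeff_Φ (a : Fin 4 → Fin 4 → k) (i j : Fin 4) : coeff (E (i, j)) (Φ a) = a i j := by
  classical
  rw [Φ_eq, coeff_sum, Finset.sum_eq_single (i, j)]
  · rw [coeff_monomial, if_pos rfl]
  · intro p _ hp
    rw [coeff_monomial, if_neg fun h => hp (E_inj h)]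
  · exact fun h => absurd (Finset.mem_univ _) h

/-- The coefficients of a form. -/
noncomputable def coef (f : MvPolynomial (Fin 4) k) (i j : Fin 4) : k := coeff (E (i, j)) f

theorem eq_Φ {f : MvPolynomial (Fin 4) k} (h1 : f.IsWeightedHomogeneous (![1, 1, 0, 0] : Fin 4 → ℕ) 3)
    (h2 : f.IsWeightedHomogeneous (![0, 0, 1, 1] : Fin 4 → ℕ) 3) : f = Φ (coef f) := by
  classical
  refine MvPolynomial.ext _ _ fun e => ?_
  by_cases he : ∃ p, E p = e
  · obtain ⟨⟨i, j⟩, rfl⟩ := he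
    rw [coeff_Φ]
    rfl
  · rw [Φ_eq, coeff_sum, Finset.sum_eq_zero fun p _ => by rw [coeff_monomial, if_neg fun h => he ⟨p, h⟩]]
    by_contra hne
    have d1 := h1 hne
    have d2 := h2 hne
    rw [Finsupp.weight_apply, Finsupp.sum_fintype _ _ (fun i => by simp), Fin.sum_univ_four] at d1 d2
    simp at d1 d2
    refine he ⟨(⟨e 1, by omega⟩, ⟨e 3, by omega⟩), Finsupp.ext fun i => ?_⟩
    fin_cases i <;> simp [E] <;> omega

theorem mapDomain_E (i j : Fin 4) :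
    Finsupp.mapDomain (![2, 3, 0, 1] : Fin 4 → Fin 4) (E (i, j)) = E (j, i) := by
  have hinj : Function.Injective (![2, 3, 0, 1] : Fin 4 → Fin 4) := by decide
  refine Finsupp.ext fun x => ?_
  obtain ⟨y, rfl⟩ : ∃ y, (![2, 3, 0, 1] : Fin 4 → Fin 4) y = x := by
    revert x
    decide
  rw [Finsupp.mapDomain_apply hinj]
  fin_cases y <;> simp [E]

theorem coef_swap (f : MvPolynomial (Fin 4) k) (i j : Fin 4) :
    coef (rename (![2, 3, 0, 1] : Fin 4 → Fin 4) f) j i = coef f i j := by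
  rw [coef, ← mapDomain_E, coeff_rename_mapDomain _ (by decide)]
  rfl

theorem vanish_of_sq_dvd {P g : MvPolynomial (Fin 2) k} (h : P ^ 2 ∣ g) (v : Fin 2 → k) (hv : eval v P = 0)
    (i : Fin 2) : eval v g = 0 ∧ eval v (pderiv i g) = 0 := by
  obtain ⟨q, rfl⟩ := h
  constructor
  · rw [map_mul, map_pow, hv]
    simp
  · rw [Derivation.leibniz, sq, Derivation.leibniz]
    simp [smul_eq_mul, hv]

/-- The six linear conditions. -/
theorem conds {a : Fin 4 → Fin 4 → k}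
    (h : (X 0 * X 1 * (X 0 - X 1)) ^ 2 ∣ rename (![0, 1, 0, 1] : Fin 4 → Fin 2) (Φ a)) :
    a 0 0 = 0 ∧ a 0 1 + a 1 0 = 0 ∧ a 3 3 = 0 ∧ a 2 3 + a 3 2 = 0 ∧
    a 0 2 + a 1 1 + a 2 0 + (a 0 3 + a 1 2 + a 2 1 + a 3 0) + (a 1 3 + a 2 2 + a 3 1) = 0 ∧
    a 0 2 + a 1 1 + a 2 0 = a 1 3 + a 2 2 + a 3 1 := by
  obtain ⟨e1, e2⟩ := vanish_of_sq_dvd h ![1, 0] (by simp) 1
  obtain ⟨e3, e4⟩ := vanish_of_sq_dvd h ![0, 1] (by simp) 0
  obtain ⟨e5, e6⟩ := vanish_of_sq_dvd h ![1, 1] (by simp) 0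
  simp [Φ, Fintype.sum_prod_type, Fin.sum_univ_four, Derivation.leibniz, pderiv_X,
    Derivation.leibniz_pow] at e1 e2 e3 e4 e5 e6
  refine ⟨by linear_combination e1, by linear_combination e2, by linear_combination e3, by linear_combination e4,
    by linear_combination e5 - e1 - e2 - e3 - e4, ?_⟩
  linear_combination e6 - 3 * e5 - 3 * e1 - 2 * e2 + 3 * e3 + 2 * e4

/-- The ten forms. -/
noncomputable def ten (l h1 h2 h3 c : MvPolynomial (Fin 4) k) : Fin 10 → MvPolynomial (Fin 4) k :=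
  ![c, l ^ 2 * (h1 + h2 + h3), l ^ 2 * (h1 - h3), l ^ 2 * (h2 - h3), l * (h1 + h2 + h3) ^ 2,
    l * (h1 + h2 + h3) * (h1 - h3), l * (h1 + h2 + h3) * (h2 - h3), l * (h1 - h3) ^ 2, l * (h2 - h3) ^ 2,
    l * (h1 - h3) * (h2 - h3)]

/-- The coefficients of a combination of the ten forms. -/
def mat (g : Fin 10 → k) : Fin 4 → Fin 4 → k :=
  ![![0, 4 * g 4 + 4 * g 5 + 4 * g 7, -2 * g 1 - 2 * g 2 - 12 * g 4 - 6 * g 5, 3 * g 1 + 9 * g 4],
    ![-(4 * g 4 + 4 * g 5 + 4 * g 7), g 0 + 4 * g 1 + 4 * g 2,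
      -g 0 - 3 * g 1 + (17 * g 4 + 4 * g 5 + 4 * g 6 + 4 * g 9), -2 * g 1 - 2 * g 3 - 12 * g 4 - 6 * g 6],
    ![-2 * g 1 - 2 * g 2 + 12 * g 4 + 6 * g 5, -g 0 - 3 * g 1 - (17 * g 4 + 4 * g 5 + 4 * g 6 + 4 * g 9),
      g 0 + 4 * g 1 + 4 * g 3, 4 * g 4 + 4 * g 6 + 4 * g 8],
    ![3 * g 1 - 9 * g 4, -2 * g 1 - 2 * g 3 + 12 * g 4 + 6 * g 6, -(4 * g 4 + 4 * g 6 + 4 * g 8), 0]]

/-- The data of the statement. -/
structure Data (l h1 h2 h3 c : MvPolynomial (Fin 4) k) : Prop where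
  l : l = X 0 * X 3 - X 1 * X 2
  h1 : h1 = X 0 * (X 3 - X 2) + X 2 * (X 1 - X 0)
  h2 : h2 = X 1 * (X 2 - X 3) + X 3 * (X 0 - X 1)
  h3 : h3 = X 0 * X 3 + X 1 * X 2
  c : c = X 0 * X 1 * (X 0 - X 1) * (X 2 * X 3 * (X 2 - X 3))

variable {l h1 h2 h3 c : MvPolynomial (Fin 4) k}

theorem sum_ten (D : Data l h1 h2 h3 c) (g : Fin 10 → k) :
    ∑ i, g i • ten l h1 h2 h3 c i = Φ (mat g) := by
  obtain ⟨rfl, rfl, rfl, rfl, rfl⟩ := D
  simp only [Fin.sum_univ_succ, Fin.sum_univ_zero, ten, mat, Φ, Fintype.sum_prod_type, smul_eq_C_mul]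
  simp [map_ofNat]
  ring

theorem linearIndependent_ten [CharZero k] (D : Data l h1 h2 h3 c) : LinearIndependent k (ten l h1 h2 h3 c) := by
  rw [Fintype.linearIndependent_iff]
  intro g hg
  rw [sum_ten D] at hg
  have hz : ∀ i j, mat g i j = 0 := fun i j => by rw [← coeff_Φ (mat g) i j, hg, coeff_zero]
  have a03 := hz 0 3
  have a30 := hz 3 0
  have a02 := hz 0 2
  have a20 := hz 2 0
  have a11 := hz 1 1
  have a13 := hz 1 3
  have a31 := hz 3 1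
  have a01 := hz 0 1
  have a23 := hz 2 3
  have a12 := hz 1 2
  simp [mat] at a03 a30 a02 a20 a11 a13 a31 a01 a23 a12
  have g1 : g 1 = 0 := by linear_combination (a03 + a30) / 6
  have g4 : g 4 = 0 := by linear_combination (a03 - a30) / 18
  have g2 : g 2 = 0 := by linear_combination -(a02 + a20) / 4 - g1
  have g5 : g 5 = 0 := by linear_combination -(a02 - a20) / 12 - 2 * g4
  have g3 : g 3 = 0 := by linear_combination -(a13 + a31) / 4 - g1
  have g6 : g 6 = 0 := by linear_combination -(a13 - a31) / 12 - 2 * g4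
  have g0 : g 0 = 0 := by linear_combination a11 - 4 * g1 - 4 * g2
  have g7 : g 7 = 0 := by linear_combination a01 / 4 - g4 - g5
  have g8 : g 8 = 0 := by linear_combination a23 / 4 - g4 - g6
  have g9 : g 9 = 0 := by linear_combination a12 / 4 + g0 / 4 + 3 * g1 / 4 - 17 * g4 / 4 - g5 - g6
  intro i
  fin_cases i <;> assumption

set_option maxHeartbeats 1000000 in
theorem sym_mem [CharZero k] (D : Data l h1 h2 h3 c) (a : Fin 4 → Fin 4 → k)
    (hs : ∀ i j, a j i = a i j)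
    (hd : (X 0 * X 1 * (X 0 - X 1)) ^ 2 ∣ rename (![0, 1, 0, 1] : Fin 4 → Fin 2) (Φ a)) :
    Φ a ∈ Submodule.span k ({c, l ^ 2 * (h1 + h2 + h3), l ^ 2 * (h1 - h3), l ^ 2 * (h2 - h3)} :
      Set (MvPolynomial (Fin 4) k)) := by
  obtain ⟨e00, e01, e33, e23, e5, e6⟩ := conds hd
  have s01 := hs 0 1
  have s02 := hs 0 2
  have s03 := hs 0 3
  have s12 := hs 1 2
  have s13 := hs 1 3
  have s23 := hs 2 3
  let g : Fin 10 → k := ![2 * a 0 2 + a 1 1, a 0 3 / 3, -a 0 2 / 2 - a 0 3 / 3, -a 0 3 / 3 - a 1 3 / 2,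
    0, 0, 0, 0, 0, 0]
  have h : a = mat g := by
    funext i j
    fin_cases i <;> fin_cases j <;> simp [mat, g] <;> grind
  rw [h, ← sum_ten D g]
  refine Submodule.sum_mem _ fun i _ => ?_
  fin_cases i <;>
    first
      | (simp [g]; done)
      | exact Submodule.smul_mem _ _ (Submodule.subset_span (by simp [ten]))

set_option maxHeartbeats 1000000 in
theorem anti_mem [CharZero k] (D : Data l h1 h2 h3 c) (a : Fin 4 → Fin 4 → k) (hs : ∀ i j, a j i = -a i j) :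
    Φ a ∈ Submodule.span k ({l * (h1 + h2 + h3) ^ 2, l * (h1 + h2 + h3) * (h1 - h3),
      l * (h1 + h2 + h3) * (h2 - h3), l * (h1 - h3) ^ 2, l * (h2 - h3) ^ 2, l * (h1 - h3) * (h2 - h3)} :
      Set (MvPolynomial (Fin 4) k)) := by
  have s00 := hs 0 0
  have s11 := hs 1 1
  have s22 := hs 2 2
  have s33 := hs 3 3
  have s01 := hs 0 1
  have s02 := hs 0 2
  have s03 := hs 0 3
  have s12 := hs 1 2
  have s13 := hs 1 3
  have s23 := hs 2 3
  let g : Fin 10 → k := ![0, 0, 0, 0, a 0 3 / 9, -a 0 2 / 6 - 2 * a 0 3 / 9, -2 * a 0 3 / 9 - a 1 3 / 6,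
    a 0 1 / 4 + a 0 2 / 6 + a 0 3 / 9, a 0 3 / 9 + a 1 3 / 6 + a 2 3 / 4,
    a 0 2 / 6 - a 0 3 / 36 + a 1 2 / 4 + a 1 3 / 6]
  have h : a = mat g := by
    funext i j
    fin_cases i <;> fin_cases j <;> simp [mat, g] <;> grind
  rw [h, ← sum_ten D g]
  refine Submodule.sum_mem _ fun i _ => ?_
  fin_cases i <;>
    first
      | (simp [g]; done)
      | exact Submodule.smul_mem _ _ (Submodule.subset_span (by simp [ten]))

/-- The space of forms in question, as a predicate. -/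
def Good (f : MvPolynomial (Fin 4) k) : Prop :=
  f.IsWeightedHomogeneous (![1, 1, 0, 0] : Fin 4 → ℕ) 3 ∧
    f.IsWeightedHomogeneous (![0, 0, 1, 1] : Fin 4 → ℕ) 3 ∧
      (X 0 * X 1 * (X 0 - X 1)) ^ 2 ∣ rename (![0, 1, 0, 1] : Fin 4 → Fin 2) f

theorem good_Φ_iff (a : Fin 4 → Fin 4 → k) :
    Good (Φ a) ↔ (X 0 * X 1 * (X 0 - X 1)) ^ 2 ∣ rename (![0, 1, 0, 1] : Fin 4 → Fin 2) (Φ a) := by
  have hw : ∀ (w : Fin 4 → ℕ), (∀ p, Finsupp.weight w (E p) = 3) → (Φ a).IsWeightedHomogeneous w 3 :=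
    fun w hw => by
      rw [Φ_eq]
      exact IsWeightedHomogeneous.sum _ _ _ fun p _ => isWeightedHomogeneous_monomial _ _ _ (hw p)
  refine ⟨fun h => h.2.2, fun h => ⟨hw _ fun p => ?_, hw _ fun p => ?_, h⟩⟩ <;>
  · rw [Finsupp.weight_apply, Finsupp.sum_fintype _ _ (fun i => by simp), Fin.sum_univ_four]
    simp [E]
    omega

theorem dvd_ten (D : Data l h1 h2 h3 c) (i : Fin 10) : i = 0 ∨ l ∣ ten l h1 h2 h3 c i := by
  have h2 : ∀ x, l ∣ l ^ 2 * x := fun x => dvd_mul_of_dvd_left (dvd_pow_self l two_ne_zero) x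
  have h1' : ∀ x y, l ∣ l * x * y := fun x y => dvd_mul_of_dvd_left (dvd_mul_right l x) y
  match i with
  | 0 => exact Or.inl rfl
  | 1 => exact Or.inr (h2 _)
  | 2 => exact Or.inr (h2 _)
  | 3 => exact Or.inr (h2 _)
  | 4 => exact Or.inr (dvd_mul_right l _)
  | 5 => exact Or.inr (h1' _ _)
  | 6 => exact Or.inr (h1' _ _)
  | 7 => exact Or.inr (dvd_mul_right l _)
  | 8 => exact Or.inr (dvd_mul_right l _)
  | 9 => exact Or.inr (h1' _ _)

theorem dvd_rename_ten (D : Data l h1 h2 h3 c) (i : Fin 10) :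
    (X 0 * X 1 * (X 0 - X 1)) ^ 2 ∣ rename (![0, 1, 0, 1] : Fin 4 → Fin 2) (ten l h1 h2 h3 c i) := by
  rcases dvd_ten D i with rfl | ⟨q, hq⟩
  · refine dvd_of_eq ?_
    show _ = rename _ c
    rw [D.c]
    simp
    ring
  · rw [hq, map_mul, D.l]
    simp [mul_comm]

theorem good_comb (D : Data l h1 h2 h3 c) (g : Fin 10 → k) : Good (∑ i, g i • ten l h1 h2 h3 c i) := by
  rw [sum_ten D, good_Φ_iff, ← sum_ten D, map_sum]
  refine Finset.dvd_sum fun i _ => ?_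
  rw [map_smul, smul_eq_C_mul]
  exact Dvd.dvd.mul_left (dvd_rename_ten D i) _

theorem rename_ten (D : Data l h1 h2 h3 c) (i : Fin 10) :
    rename (![2, 3, 0, 1] : Fin 4 → Fin 4) (ten l h1 h2 h3 c i) =
      if i.1 < 4 then ten l h1 h2 h3 c i else -ten l h1 h2 h3 c i := by
  obtain ⟨rfl, rfl, rfl, rfl, rfl⟩ := D
  fin_cases i <;> simp [ten] <;> ring

theorem invariant_iff [CharZero k] (D : Data l h1 h2 h3 c) (f : MvPolynomial (Fin 4) k) :
    (Good f ∧ rename (![2, 3, 0, 1] : Fin 4 → Fin 4) f = f) ↔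
      f ∈ Submodule.span k ({c, l ^ 2 * (h1 + h2 + h3), l ^ 2 * (h1 - h3), l ^ 2 * (h2 - h3)} :
        Set (MvPolynomial (Fin 4) k)) := by
  constructor
  · rintro ⟨⟨hf1, hf2, hf3⟩, hs⟩
    rw [eq_Φ hf1 hf2] at hf3 ⊢
    refine sym_mem D _ (fun i j => ?_) hf3
    conv_lhs => rw [← hs]
    exact coef_swap f i j
  · intro hf
    obtain ⟨a, b, d, e, rfl⟩ : ∃ a b d e : k, f = ∑ i, ![a, b, d, e, 0, 0, 0, 0, 0, 0] i • ten l h1 h2 h3 c i := by
      simp only [Submodule.mem_span_insert, Submodule.mem_span_singleton] at hf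
      obtain ⟨a, _, ⟨b, _, ⟨d, _, ⟨e, rfl⟩, rfl⟩, rfl⟩, rfl⟩ := hf
      refine ⟨a, b, d, e, ?_⟩
      simp [Fin.sum_univ_succ, ten]
    refine ⟨good_comb D _, ?_⟩
    rw [map_sum]
    refine Finset.sum_congr rfl fun i _ => ?_
    rw [map_smul, rename_ten D]
    fin_cases i <;> simp

theorem anti_iff [CharZero k] (D : Data l h1 h2 h3 c) (f : MvPolynomial (Fin 4) k) :
    (Good f ∧ rename (![2, 3, 0, 1] : Fin 4 → Fin 4) f = -f) ↔
      f ∈ Submodule.span k ({l * (h1 + h2 + h3) ^ 2, l * (h1 + h2 + h3) * (h1 - h3),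
        l * (h1 + h2 + h3) * (h2 - h3), l * (h1 - h3) ^ 2, l * (h2 - h3) ^ 2, l * (h1 - h3) * (h2 - h3)} :
        Set (MvPolynomial (Fin 4) k)) := by
  constructor
  · rintro ⟨⟨hf1, hf2, hf3⟩, hs⟩
    rw [eq_Φ hf1 hf2]
    refine anti_mem D _ fun i j => ?_
    have h := coef_swap f i j
    rw [hs, coef, coeff_neg] at h
    exact neg_eq_iff_eq_neg.1 h
  · intro hf
    obtain ⟨a, b, d, e, q, r, rfl⟩ : ∃ a b d e q r : k,
        f = ∑ i, ![0, 0, 0, 0, a, b, d, e, q, r] i • ten l h1 h2 h3 c i := by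
      simp only [Submodule.mem_span_insert, Submodule.mem_span_singleton] at hf
      obtain ⟨a, _, ⟨b, _, ⟨d, _, ⟨e, _, ⟨q, _, ⟨r, rfl⟩, rfl⟩, rfl⟩, rfl⟩, rfl⟩, rfl⟩ := hf
      refine ⟨a, b, d, e, q, r, ?_⟩
      simp [Fin.sum_univ_succ, ten]
    refine ⟨good_comb D _, ?_⟩
    rw [map_sum, ← Finset.sum_neg_distrib]
    refine Finset.sum_congr rfl fun i _ => ?_
    rw [map_smul, rename_ten D]
    fin_cases i <;> simp

end Groth.Agent.BiTritan
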